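import Cfsg.Agent.H141.Ux.Defs

/-!
# UT2 (UX, S5716): the exact statements of the sub-tasks (helper50)

`Φ` is a form on `V`, `ψ : D →ₗ V` an injective map (a frame).

* `pb Φ ψ` : the pull back `(B, q)` of the form; `IsoP P m` : `m` preserves `P = (B, q)`;
* `PI F X e` : the irreducible automorphisms of `X` of order divisible by some `k` with `Pp F e k`;
* `Wc c Φ G ψ` : (number of frames isometric to `ψ`) * (number of `g ∈ G` with `g ψ = ψ'`) `≤ c |G|`;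
* `Gn Φ e y E` : `E` is the block of `y`.

A task `Yxx` is done when a theorem `… : H50.Ux.Yxx` is proved.
-/

set_option autoImplicit false

namespace Cfsg.Agent.H50.Ux

open Module Cfsg.Agent.H847.Bs Cfsg.Agent.LieClassical.OrthCore
open Cfsg.Agent.H440.Bs (perp mem_perp)
open Cfsg.Agent.H141.Ux (Kl ParE Pp StE)

section

variable {F V : Type*} [Field F] [AddCommGroup V] [Module F V]

/-- pull back of the form -/
def pb {D : Type*} [AddCommGroup D] [Module F D] (Φ : Frm F V) (ψ : D →ₗ[F] V) : (D → D → F) × (D → F) :=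
  (fun x y => Φ.B (ψ x) (ψ y), fun x => Φ.q (ψ x))

/-- `m` preserves `P` -/
def IsoP {D : Type*} [AddCommGroup D] [Module F D] (P : (D → D → F) × (D → F)) (m : D ≃ₗ[F] D) : Prop :=
  (∀ x y, P.1 (m x) (m y) = P.1 x y) ∧ ∀ x, P.2 (m x) = P.2 x

/-- `P` is the pull back of `Φ` under an injective map -/
def Emb {D : Type*} [AddCommGroup D] [Module F D] (Φ : Frm F V) (P : (D → D → F) × (D → F)) : Prop :=
  ∃ ψ : D →ₗ[F] V, Function.Injective ψ ∧ pb Φ ψ = P

/-- (number of frames isometric to `ψ`) * (number of `g ∈ G` with `g ψ = ψ'`) `≤ c |G|` -/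
def Wc {D : Type*} [AddCommGroup D] [Module F D] (c : ℕ) (Φ : Frm F V) (G : Subgroup (V ≃ₗ[F] V)) (ψ : D →ₗ[F] V) :
    Prop :=
  ∀ ψ' : D →ₗ[F] V,
    Nat.card {χ : D →ₗ[F] V // Function.Injective χ ∧ pb Φ χ = pb Φ ψ} *
      Nat.card {g : V ≃ₗ[F] V // g ∈ G ∧ ∀ x, g (ψ x) = ψ' x} ≤ c * Nat.card G

/-- `E` is a nondegenerate irreducible block of `y` of dimension `e`, the order of `y` on `E` has a large `p`-primitive part, and
no irreducible subspace of `E^⊥` has dimension divisible by `e` -/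
structure Gn (Φ : Frm F V) (e : ℕ) (y : V ≃ₗ[F] V) (E : Submodule F V) : Prop where
  nd : Φ.NdOn E
  dim : finrank F E = e
  irr : Irr y E
  pp : ∃ k, Pp F e k ∧ ∀ j : ℕ, (∀ a ∈ E, (y ^ j) a = a) → k ∣ j
  no : ∀ B ≤ perp Φ E, Irr y B → ¬ e ∣ finrank F B

/-- the three kinds of forms -/
def Fo (Φ : Frm F V) : Prop := IsSp Φ ∨ (∃ r, IsHerm r Φ) ∨ ∃ Q : QuadraticForm F V, (frmQ Q).Nd ∧ Φ = frmQ Q

end

/-- the irreducible automorphisms of order divisible by some `k` with `Pp F e k` -/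
def PI (F X : Type*) [Field F] [AddCommGroup X] [Module F X] (e : ℕ) : Set (X ≃ₗ[F] X) :=
  {m | Irr m ⊤ ∧ ∃ k, Pp F e k ∧ k ∣ orderOf m}

/-! ### Ye: the power `z` -/

/-- Ye: primary decomposition (`L24`) -/
def Ye : Prop := ∀ (F V : Type) [Field F] [Finite F] [AddCommGroup V] [Module F V] [Module.Finite F V] (Φ : Frm F V) (e : ℕ),
  Φ.Nd → 2 ≤ e → ∀ y ∈ Φ.Iso, ∀ E, Gn Φ e y E → ∃ z, StE Φ e y E z

/-! ### Ya: existence of the blocks, lower bounds -/

/-- Ya0: the elements with a large primitive part in a torus of order `c` (`c = q^(e/2) + 1` or `c = r^e + 1`) -/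
def Ya0 : Prop := ∀ (L : Type) [Field L] [Finite L] (p f e c : ℕ), p.Prime → 1 ≤ f → 3 ≤ e → Nat.card L = (p ^ f) ^ e →
  64 * (e * f) * (2 * e + 2) ^ 2 * e ≤ p ^ (e * f).totient → c ∣ (p ^ f) ^ e - 1 →
  (∀ r : ℕ, r.Prime → orderOf ((p : ℕ) : ZMod r) = e * f → ¬ r ∣ ((p ^ f) ^ e - 1) / c) →
  3 * c ≤ 4 * Nat.card {t : Lˣ // t ^ c = 1 ∧ ∃ k, 2 * e + 1 < k ∧ k ∣ (p ^ f) ^ e - 1 ∧
    (∀ r : ℕ, r.Prime → r ∣ k → orderOf ((p : ℕ) : ZMod r) = e * f) ∧ k ∣ orderOf t}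

/-- conclusion of Ya1, Ya2, Ya3 -/
def YaC {F V : Type} [Field F] [AddCommGroup V] [Module F V] (Φ : Frm F V) (e : ℕ) : Prop :=
  ∃ E₀ : Submodule F V, Φ.NdOn E₀ ∧ finrank F E₀ = e ∧
    Nat.card (Φ.on E₀).Iso ≤ 4 * e * Nat.card {m : E₀ ≃ₗ[F] E₀ // m ∈ (Φ.on E₀).Iso ∧ m ∈ PI F E₀ e}

/-- Ya1: symplectic forms (from `Ya0`) -/
def Ya1 : Prop := ∀ (F V : Type) [Field F] [Finite F] [AddCommGroup V] [Module F V] [Module.Finite F V] (Φ : Frm F V)
  (p f e : ℕ), IsSp Φ → Even e → p.Prime → Nat.card F = p ^ f → 20 ≤ e → 2 * e + 6 ≤ finrank F V →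
  64 * (e * f) * (2 * e + 2) ^ 2 * e ≤ p ^ (e * f).totient → YaC Φ e

/-- Ya2: hermitian forms (from `Ya0`) -/
def Ya2 : Prop := ∀ (F V : Type) [Field F] [Finite F] [AddCommGroup V] [Module F V] [Module.Finite F V] (Φ : Frm F V)
  (r p f e : ℕ), IsHerm r Φ → Odd e → p.Prime → Nat.card F = p ^ f → 20 ≤ e → 2 * e + 6 ≤ finrank F V →
  64 * (e * f) * (2 * e + 2) ^ 2 * e ≤ p ^ (e * f).totient → YaC Φ e

/-- Ya3: quadratic forms (from `Ya0`); the dimension of `V` may be odd (odd characteristic) -/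
def Ya3 : Prop := ∀ (F V : Type) [Field F] [Finite F] [AddCommGroup V] [Module F V] [Module.Finite F V]
  (Q : QuadraticForm F V) (p f e : ℕ), (frmQ Q).Nd → Even e → p.Prime → Nat.card F = p ^ f → 20 ≤ e →
  2 * e + 6 ≤ finrank F V → 64 * (e * f) * (2 * e + 2) ^ 2 * e ≤ p ^ (e * f).totient → YaC (frmQ Q) e

/-! ### Yb: class-free upper bound for the irreducible isometries -/

/-- Yb1: an irreducible `m` which preserves a nonzero `P` has order dividing `w + 1`, `w² = q ^ k`, and it preserves at most `w`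
embedded `P` (zero included) -/
def Yb1 : Prop := ∀ (F V X : Type) [Field F] [Finite F] [AddCommGroup V] [Module F V] [Module.Finite F V] [AddCommGroup X]
  [Module F X] [Module.Finite F X] (Φ : Frm F V), Fo Φ → 2 ≤ finrank F X → ∀ m : X ≃ₗ[F] X, Irr m ⊤ →
  (∃ P, P ≠ 0 ∧ Emb Φ P ∧ IsoP P m) →
  ∃ w : ℕ, w ^ 2 = Nat.card F ^ finrank F X ∧ orderOf m ∣ w + 1 ∧
    Nat.card {P : (X → X → F) × (X → F) // Emb Φ P ∧ IsoP P m} ≤ w

/-- Yb: from `Yb1`, `L25` (number of irreducible `m` with `orderOf m ∣ w + 1`) and `L02` (for `P = 0`) -/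
def Yb : Prop := ∀ (F V : Type) [Field F] [Finite F] [AddCommGroup V] [Module F V] [Module.Finite F V] (Φ : Frm F V), Fo Φ →
  ∀ k, 2 ≤ k →
  k * Nat.card {x : (((Fin k → F) → (Fin k → F) → F) × ((Fin k → F) → F)) × ((Fin k → F) ≃ₗ[F] (Fin k → F)) //
      Emb Φ x.1 ∧ IsoP x.1 x.2 ∧ Irr x.2 ⊤} ≤ 8 * Nat.card ((Fin k → F) ≃ₗ[F] (Fin k → F))

/-! ### Yc: Witt's theorem with constants -/

/-- Yc1: symplectic groups (`H91.Symp.witt_family`) -/
def Yc1 : Prop := ∀ (F V D : Type) [Field F] [Finite F] [AddCommGroup V] [Module F V] [Module.Finite F V] [AddCommGroup D]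
  [Module F D] [Module.Finite F D] (Φ : Frm F V), IsSp Φ → ∀ ψ : D →ₗ[F] V, Function.Injective ψ → Wc 1 Φ Φ.Iso ψ

/-- Yc2: special unitary groups (Witt for the unitary group, and a quasi-reflection along a nonisotropic vector of
`(range ψ)^⊥` to correct the determinant) -/
def Yc2 : Prop := ∀ (F V D : Type) [Field F] [Finite F] [AddCommGroup V] [Module F V] [Module.Finite F V] [AddCommGroup D]
  [Module F D] [Module.Finite F D] (r : ℕ) (Φ : Frm F V), IsHerm r Φ → ∀ ψ : D →ₗ[F] V, Function.Injective ψ →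
  ¬ perp Φ (LinearMap.range ψ) ≤ LinearMap.range ψ → Wc 1 Φ (Φ.Iso ⊓ slV F V) ψ

/-- Yc3: `Ω` (Witt for the orthogonal group, from Yc4) -/
def Yc3 : Prop := ∀ (F V D : Type) [Field F] [Finite F] [AddCommGroup V] [Module F V] [Module.Finite F V] [AddCommGroup D]
  [Module F D] [Module.Finite F D] (Q : QuadraticForm F V), (frmQ Q).Nd → 10 ≤ finrank F V → ∀ ψ : D →ₗ[F] V,
  Function.Injective ψ → Wc 4 (frmQ Q) (E Q) ψ

/-- Yc4: the index of `Ω` in the orthogonal group -/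
def Yc4 : Prop := ∀ (F V : Type) [Field F] [Finite F] [AddCommGroup V] [Module F V] [Module.Finite F V]
  (Q : QuadraticForm F V), (frmQ Q).Nd → 10 ≤ finrank F V → Nat.card (O Q) ≤ 4 * Nat.card (E Q)

end Cfsg.Agent.H50.Ux
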