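import Cfsg.Agent.H50.Ux.Mom
import Cfsg.Agent.H847.Ux.Norm

/-!
# UT2 (UX, S5716): the model block (helper50)
-/

set_option autoImplicit false
set_option linter.unusedSectionVars false

namespace Cfsg.Agent.H50.Ux

open Module Cfsg.Agent.H847.Bs Cfsg.Agent.LieClassical.OrthCore
open Cfsg.Agent.H440.Bs (perp mem_perp mem_perp')
open Cfsg.Agent.H141.Ux (Kl ParE Pp StE)
open Cfsg.Agent.H50.RG (Ad exists_m irr_frame pow_frame irr_conj)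

variable {F V : Type*} [Field F] [AddCommGroup V] [Module F V]
variable {Φ : Frm F V} {G : Subgroup (V ≃ₗ[F] V)} {N t : ℕ}

theorem kl_le (h : Kl Φ G N t) : G ≤ Φ.Iso := by
  rcases h with ⟨h1, rfl, h3, -⟩ | ⟨r, h1, rfl, h3, -⟩ | ⟨Q, h1, rfl, rfl, h4, -⟩
  · exact le_rfl
  · exact inf_le_left
  · intro g hg
    exact ⟨fun x y => polar_map (E_le_O hg) x y, E_le_O hg⟩

theorem kl_nd (h : Kl Φ G N t) : Φ.Nd := by
  rcases h with ⟨h1, rfl, h3, -⟩ | ⟨r, h1, rfl, h3, -⟩ | ⟨Q, h1, rfl, rfl, h4, -⟩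
  · exact h1.nd
  · exact h1.nd
  · exact h1

/-- small frames: exact transitivity -/
theorem tr_of_witt [Finite F] [Finite V] (h : Kl Φ G N t) {X : Type*} [AddCommGroup X] [Module F X]
    [FiniteDimensional F X] (hX : 2 * finrank F X + 3 ≤ finrank F V) (h5 : 5 ≤ finrank F V)
    {P : (X → X → F) × (X → F)} : ∀ φ ∈ FrP Φ P, ∀ φ' ∈ FrP Φ P, ∃ g ∈ G, ∀ x, g (φ x) = φ' x := by
  rintro φ ⟨hφ, hP⟩ φ' ⟨hφ', hP'⟩
  let b := finBasis F X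
  have h' : Cfsg.Agent.H847.Ux.Kl Φ G N := by
    rcases h with ⟨h1, h2, h3, -⟩ | ⟨r, h1, h2, h3, -⟩ | ⟨Q, h1, h2, h3, h4, -⟩
    · exact Or.inl ⟨h1, h2, h3⟩
    · exact Or.inr (Or.inl ⟨r, h1, h2, h3⟩)
    · exact Or.inr (Or.inr ⟨Q, h1, h2, h3, h4⟩)
  have hB : ∀ x y, Φ.B (φ x) (φ y) = Φ.B (φ' x) (φ' y) := fun x y =>
    congrFun (congrFun (congrArg Prod.fst (hP.trans hP'.symm)) x) y
  have hq : ∀ x, Φ.q (φ x) = Φ.q (φ' x) := fun x => congrFun (congrArg Prod.snd (hP.trans hP'.symm)) x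
  obtain ⟨g, hg, hgg⟩ := Cfsg.Agent.H847.Ux.witt h' hX h5 (u := fun i => φ (b i)) (u' := fun i => φ' (b i))
    (b.linearIndependent.map' φ (LinearMap.ker_eq_bot.2 hφ)) (b.linearIndependent.map' φ' (LinearMap.ker_eq_bot.2 hφ'))
    (fun i j => hB _ _) (fun i => hq _)
  refine ⟨g, hg, fun x => ?_⟩
  have h1 : (g : V →ₗ[F] V) ∘ₗ φ = φ' := b.ext fun i => hgg i
  exact LinearMap.congr_fun h1 x

theorem Wc.mono {D : Type*} [AddCommGroup D] [Module F D] {c c' : ℕ} (hc : c ≤ c') {ψ : D →ₗ[F] V} (h : Wc c Φ G ψ) :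
    Wc c' Φ G ψ := fun ψ' => (h ψ').trans (Nat.mul_le_mul_right _ hc)

/-! ### the model block -/

/-- the form of `E₀` -/
def P0 (Φ : Frm F V) (E₀ : Submodule F V) : (E₀ → E₀ → F) × (E₀ → F) := pb Φ E₀.subtype

/-- the irreducible isometries of `E₀` with large primitive part -/
def S0 (Φ : Frm F V) (e : ℕ) (E₀ : Submodule F V) : Set (E₀ ≃ₗ[F] E₀) := {m | IsoP (P0 Φ E₀) m ∧ m ∈ PI F E₀ e}

theorem IsoP.mul {X : Type*} [AddCommGroup X] [Module F X] {P : (X → X → F) × (X → F)} {m m' : X ≃ₗ[F] X}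
    (h : IsoP P m) (h' : IsoP P m') : IsoP P (m * m') :=
  ⟨fun x y => (h.1 _ _).trans (h'.1 _ _), fun x => (h.2 _).trans (h'.2 _)⟩

theorem IsoP.inv {X : Type*} [AddCommGroup X] [Module F X] {P : (X → X → F) × (X → F)} {m : X ≃ₗ[F] X}
    (h : IsoP P m) : IsoP P m⁻¹ := by
  have e : ∀ x, m (m⁻¹ x) = x := fun x => m.apply_symm_apply x
  refine ⟨fun x y => ?_, fun x => ?_⟩
  · rw [← h.1 (m⁻¹ x) (m⁻¹ y), e, e]
  · rw [← h.2 (m⁻¹ x), e]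

theorem cj_S0 (e : ℕ) (E₀ : Submodule F V) : CjP (P0 Φ E₀) (S0 Φ e E₀) := by
  rintro m ⟨hm, hi, k, hk, hd⟩ t ht
  refine ⟨(ht.inv.mul hm).mul ht, irr_conj hi, k, hk, ?_⟩
  have : orderOf (t⁻¹ * m * t) = orderOf m := by
    have := orderOf_injective (MulAut.conj t⁻¹ : MulAut (E₀ ≃ₗ[F] E₀)).toMonoidHom (MulEquiv.injective _) m
    simpa using this
  rw [this]
  exact hd

theorem ndOn_frP {E₀ : Submodule F V} (hE : Φ.NdOn E₀) : ∀ φ ∈ FrP Φ (P0 Φ E₀), Φ.NdOn (LinearMap.range φ) := by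
  rintro φ ⟨hφ, hP⟩ _ ⟨x, rfl⟩ h
  have hB : ∀ x y : E₀, Φ.B (φ x) (φ y) = Φ.B x y := fun x y => congrFun (congrFun (congrArg Prod.fst hP) x) y
  have h1 : x = 0 := by
    apply Subtype.ext
    refine hE x x.2 fun y hy => ?_
    rw [← hB x ⟨y, hy⟩]
    exact h _ ⟨_, rfl⟩
  rw [h1, map_zero]

theorem mem_AP0 {E₀ : Submodule F V} (hE : Φ.NdOn E₀) {e : ℕ} (hd : finrank F E₀ = e) {y : V ≃ₗ[F] V}
    {A : Submodule F V} (hA : A ∈ AP Φ (P0 Φ E₀) y (S0 Φ e E₀)) :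
    Φ.NdOn A ∧ finrank F A = e ∧ Irr y A ∧ ∃ k, Pp F e k ∧ ∀ j : ℕ, (∀ a ∈ A, (y ^ j) a = a) → k ∣ j := by
  obtain ⟨φ, hφ, rfl, m, ⟨hm, hi, k, hk, hkd⟩, h⟩ := hA
  refine ⟨ndOn_frP hE φ hφ, by rw [LinearMap.finrank_range_of_inj hφ.1, hd], (irr_frame hφ.1 h).1 hi, k, hk,
    fun j hj => hkd.trans (orderOf_dvd_of_pow_eq_one ?_)⟩
  ext x
  have h1 : (m ^ j) x = x := by
    apply hφ.1
    rw [← pow_frame h]
    exact hj _ ⟨x, rfl⟩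
  rw [h1]
  rfl

/-- the pairs in `sum_PB` satisfy `Wc` -/
theorem wc_pairs [FiniteDimensional F V] (hN : Φ.Nd) (hG : G ≤ Φ.Iso) {E₀ : Submodule F V} (hE : Φ.NdOn E₀) {e : ℕ}
    (hd : finrank F E₀ = e) {c k : ℕ} (hk : e ∣ k) (hn : ¬ e ∣ finrank F V)
    (hW : ∀ ψ : (E₀ × (Fin k → F)) →ₗ[F] V, Function.Injective ψ →
      ¬ perp Φ (LinearMap.range ψ) ≤ LinearMap.range ψ → Wc c Φ G ψ) :
    ∀ y ∈ G, ∀ z ∈ PF Φ (P0 Φ E₀) (S0 Φ e E₀) (Tk Φ k) y, Wc c Φ G (z.1.coprod z.2) := by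
  intro y hy z hz
  have hA := mem_AP0 hE hd (y := y) ⟨z.1, hz.1.1, rfl, hz.1.2⟩
  obtain ⟨m, ⟨-, -, hmi⟩, hm⟩ := hz.2.2.2
  have hB : Irr y (LinearMap.range z.2) := (irr_frame hz.2.1 hm).1 hmi
  have hBE : LinearMap.range z.2 ≤ perp Φ (LinearMap.range z.1) := by
    rintro _ ⟨u, rfl⟩
    rw [mem_perp]
    rintro _ ⟨x, rfl⟩
    exact Φ.refl _ _ (hz.2.2.1 x u)
  have hdis : Disjoint (LinearMap.range z.1) (LinearMap.range z.2) :=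
    (Cfsg.Agent.H440.Bs.perp_disjoint Φ hA.1).mono_right hBE
  refine hW _ ?_ ?_
  · rw [← LinearMap.ker_eq_bot, LinearMap.ker_coprod_of_disjoint_range _ _ hdis, LinearMap.ker_eq_bot.2 hz.1.1.1,
      LinearMap.ker_eq_bot.2 hz.2.1, Submodule.prod_bot]
  · rw [LinearMap.range_coprod]
    refine room hN (hG hy) hA.1 hA.2.1 hB hBE ?_ hn
    rw [LinearMap.finrank_range_of_inj hz.2.1]
    simpa using hk

end Cfsg.Agent.H50.Ux
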