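import Cfsg.Agent.H50.Ux.Core
import Cfsg.Agent.H141.Ux.Stmts

/-!
# UT2 (UX, S5716): assembly (helper50)

`ut2_of : Ye → Ya1 → Ya2 → Ya3 → Yb → Yc1 → Yc2 → Yc3 → H141.Ux.UT2`.
-/

set_option autoImplicit false
set_option linter.unusedSectionVars false

namespace Cfsg.Agent.H50.Ux

open Module Cfsg.Agent.H847.Bs Cfsg.Agent.LieClassical.OrthCore
open Cfsg.Agent.H440.Bs (perp mem_perp mem_perp')
open Cfsg.Agent.H141.Ux (Kl ParE Pp StE UT2 cnt Num)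

/-- a hermitian form is not bilinear -/
theorem herm_ne {F V : Type*} [Field F] [Finite F] [AddCommGroup V] [Module F V] {Φ : Frm F V} {r : ℕ}
    (h : IsHerm r Φ) (hs : ∀ a, Φ.s a = a) : False := by
  have h1 : ∀ a : F, a ^ r = a := fun a => (h.s a).symm.trans (hs a)
  have hr : 2 ≤ r := by
    by_contra hr
    have h2 : 1 < Nat.card F := Finite.one_lt_card
    rw [h.card] at h2
    have : r ^ 2 ≤ 1 ^ 2 := Nat.pow_le_pow_left (by omega) 2
    omega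
  obtain ⟨g, hg⟩ := IsCyclic.exists_generator (α := Fˣ)
  have h2 : orderOf g = Nat.card F - 1 := by
    rw [orderOf_eq_card_of_forall_mem_zpowers hg, Nat.card_units]
  have h3 : g ^ (r - 1) = 1 := by
    have h4 : g ^ r = g := Units.ext (by rw [Units.val_pow_eq_pow_val]; exact h1 g)
    have h5 : g ^ r = g ^ (r - 1) * g := by
      rw [← pow_succ]
      congr 1
      omega
    rw [h5] at h4
    exact mul_eq_right.1 h4
  have h4 := Nat.le_of_dvd (by omega) (orderOf_dvd_of_pow_eq_one h3)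
  rw [h2, h.card] at h4
  have : r * 2 ≤ r ^ 2 := by rw [pow_two]; exact Nat.mul_le_mul_left _ hr
  omega

theorem num_bound {b g S η' ε K : ℝ} (hb : 0 ≤ b) (hg : 0 ≤ g) (hη0 : 0 ≤ η') (hη1 : η' ≤ 1 / 2) (hη : 16 * η' ≤ ε)
    (hε : 0 < ε) (hK : 64 / ε ≤ K) (hS : K / 4 ≤ S) (h : b * ((1 - η') * S) ^ 2 ≤ g * (2 * S + 2 * η' * S ^ 2)) :
    b ≤ ε * g := by
  have hS0 : 16 / ε ≤ S := by
    have : 16 / ε = 64 / ε / 4 := by ring
    linarith
  have h1 : 0 < 16 / ε := by positivity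
  have hSp : 0 < S := by linarith
  have h2 : 16 ≤ ε * S := by
    rw [div_le_iff₀ hε] at hS0
    linarith
  have h3 : b * (S ^ 2 / 4) ≤ b * ((1 - η') * S) ^ 2 := by
    refine mul_le_mul_of_nonneg_left ?_ hb
    have h4 : S / 2 ≤ (1 - η') * S := by nlinarith
    have h5 : (S / 2) ^ 2 ≤ ((1 - η') * S) ^ 2 := pow_le_pow_left₀ (by linarith) h4 2
    calc S ^ 2 / 4 = (S / 2) ^ 2 := by ring
      _ ≤ _ := h5
  have h4 : g * (2 * S + 2 * η' * S ^ 2) ≤ g * (ε * (S ^ 2 / 4)) := by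
    refine mul_le_mul_of_nonneg_left ?_ hg
    have h5 : 2 * S ≤ ε * S ^ 2 / 8 := by nlinarith
    have h6 : 2 * η' * S ^ 2 ≤ ε * S ^ 2 / 8 := by nlinarith [sq_nonneg S]
    linarith
  have h5 : b * (S ^ 2 / 4) ≤ (ε * g) * (S ^ 2 / 4) := by
    calc _ ≤ _ := h3.trans (h.trans h4)
      _ = _ := by ring
  exact le_of_mul_le_mul_right h5 (by positivity)

theorem ut2_of (hYe : Ye) (hYa1 : Ya1) (hYa2 : Ya2) (hYa3 : Ya3) (hYb : Yb) (hYc1 : Yc1) (hYc2 : Yc2) (hYc3 : Yc3) :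
    UT2 := by
  intro ε hε
  refine ⟨64 / ε + 1, min (1 / 64) (ε / 512), by have : 0 < 64 / ε := by positivity
                                                 linarith, by positivity, ?_⟩
  intro F V _ _ _ _ _ Φ G N t p f h hp hF I hI hK
  classical
  have : Finite V := Module.finite_of_finite F
  have : Finite (V ≃ₗ[F] V) := Cfsg.Agent.H50.RG.finite_equiv
  set η : ℝ := min (1 / 64) (ε / 512) with hη
  have hη0 : 0 < η := by positivity
  have hη1 : η ≤ 1 / 64 := min_le_left _ _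
  have hη2 : η ≤ ε / 512 := min_le_right _ _
  -- the forms
  have hFo : Fo Φ := by
    rcases h with ⟨h1, -⟩ | ⟨r, h1, -⟩ | ⟨Q, h1, h2, -⟩
    · exact Or.inl h1
    · exact Or.inr (Or.inl ⟨r, h1⟩)
    · exact Or.inr (Or.inr ⟨Q, h1, h2⟩)
  have hblock : ∀ e ∈ I, YaC Φ e := by
    intro e he
    obtain ⟨hnum, hpar⟩ := hI e he
    have h1 := hnum.le
    have h2 := hnum.ge
    rcases h with ⟨h3, -⟩ | ⟨r, h3, -⟩ | ⟨Q, h3, h4, -⟩
    · have hev : Even e := by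
        rcases hpar with h5 | ⟨⟨r, h5⟩, -⟩
        · exact h5.2
        · exact (herm_ne h5 h3.s).elim
      exact hYa1 F V Φ p f e h3 hev hp hF h2 (by omega) hnum.bigp
    · have hod : Odd e := by
        rcases hpar with ⟨h5 | ⟨Q, rfl⟩, -⟩ | h5
        · exact (herm_ne h3 h5.s).elim
        · exact (herm_ne h3 fun _ => rfl).elim
        · exact h5.2
      exact hYa2 F V Φ r p f e h3 hod hp hF h2 (by omega) hnum.bigp
    · subst h4
      have hev : Even e := by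
        rcases hpar with h5 | ⟨⟨r, h5⟩, -⟩
        · exact h5.2
        · exact (herm_ne h5 fun _ => rfl).elim
      exact hYa3 F V Q p f e h3 hev hp hF h2 (by omega) hnum.bigp
  have hch : ∀ e : ℕ, ∃ E₀ : Submodule F V, e ∈ I → Φ.NdOn E₀ ∧ finrank F E₀ = e ∧
      Nat.card (Φ.on E₀).Iso ≤ 4 * e * Nat.card {m : E₀ ≃ₗ[F] E₀ // m ∈ (Φ.on E₀).Iso ∧ m ∈ PI F E₀ e} := by
    intro e
    by_cases he : e ∈ I
    · obtain ⟨E₀, hE₀⟩ := hblock e he
      exact ⟨E₀, fun _ => hE₀⟩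
    · exact ⟨⊥, fun h => (he h).elim⟩
  choose E₀ hE₀ using hch
  rcases I.eq_empty_or_nonempty with hI0 | ⟨e₁, he₁⟩
  · subst hI0
    rw [Finset.sum_empty] at hK
    have : 0 < 64 / ε := by positivity
    linarith
  have hn10 : 10 ≤ finrank F V := by
    have := (hI e₁ he₁).1.le
    omega
  have hW : ∀ (D : Type) [AddCommGroup D] [Module F D] [Module.Finite F D] (ψ : D →ₗ[F] V), Function.Injective ψ →
      ¬ perp Φ (LinearMap.range ψ) ≤ LinearMap.range ψ → Wc 4 Φ G ψ := by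
    intro D _ _ _ ψ hψ hperp
    rcases h with ⟨h3, rfl, -⟩ | ⟨r, h3, rfl, -⟩ | ⟨Q, h3, rfl, rfl, -⟩
    · exact (hYc1 F V D Φ h3 ψ hψ).mono (by norm_num)
    · exact (hYc2 F V D r Φ h3 ψ hψ hperp).mono (by norm_num)
    · exact hYc3 F V D Q h3 hn10 ψ hψ
  have hcore := core hYb h hFo hW I E₀ (fun e he => ⟨(hE₀ e he).1, (hE₀ e he).2.1⟩)
    (fun e he => ⟨(hI e he).1.le, (hI e he).1.ge, (hI e he).1.nd.1⟩) (η := η) (fun e he => (hI e he).1.sum)
    (by linarith) (by linarith)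
  have hx : ∀ e ∈ I, (1 / (e : ℝ)) * (1 / 4) ≤ xx Φ e (E₀ e) := by
    intro e he
    have h1 := (hE₀ e he).2.2
    have he0 : (0 : ℝ) < e := by
      have := (hI e he).1.ge
      exact_mod_cast (by omega : 0 < e)
    have h2 : Nat.card {t : E₀ e ≃ₗ[F] E₀ e // IsoP (P0 Φ (E₀ e)) t} ≤ 4 * e * Nat.card (S0 Φ e (E₀ e)) := h1
    have hJ0 : (0 : ℝ) < Nat.card {t : E₀ e ≃ₗ[F] E₀ e // IsoP (P0 Φ (E₀ e)) t} := by
      have : Nonempty {t : E₀ e ≃ₗ[F] E₀ e // IsoP (P0 Φ (E₀ e)) t} := ⟨⟨1, fun _ _ => rfl, fun _ => rfl⟩⟩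
      have : Finite (E₀ e ≃ₗ[F] E₀ e) := Cfsg.Agent.H50.RG.finite_equiv
      exact_mod_cast Nat.card_pos
    unfold xx
    rw [le_div_iff₀ hJ0]
    have h3 : (Nat.card {t : E₀ e ≃ₗ[F] E₀ e // IsoP (P0 Φ (E₀ e)) t} : ℝ) ≤ 4 * e * Nat.card (S0 Φ e (E₀ e)) := by
      exact_mod_cast h2
    calc 1 / (e : ℝ) * (1 / 4) * Nat.card {t : E₀ e ≃ₗ[F] E₀ e // IsoP (P0 Φ (E₀ e)) t} ≤
        1 / (e : ℝ) * (1 / 4) * (4 * e * Nat.card (S0 Φ e (E₀ e))) :=
          mul_le_mul_of_nonneg_left h3 (by positivity)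
      _ = _ := by field_simp
  have hS : (64 / ε) / 4 ≤ ∑ e ∈ I, xx Φ e (E₀ e) := by
    have h1 : (∑ e ∈ I, 1 / (e : ℝ)) * (1 / 4) ≤ ∑ e ∈ I, xx Φ e (E₀ e) := by
      rw [Finset.sum_mul]
      exact Finset.sum_le_sum hx
    linarith
  have hb := num_bound (K := 64 / ε) (Nat.cast_nonneg _) (Nat.cast_nonneg _) (by linarith : (0 : ℝ) ≤ 32 * η)
    (by linarith) (by linarith) hε le_rfl hS hcore
  refine le_trans ?_ hb
  have hcnt : cnt G (fun y => ¬ ∃ e ∈ I, ∃ E z, StE Φ e y E z) ≤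
      Nat.card {y : G // ¬ ∃ e ∈ I, ∃ E, Gn Φ e (y : V ≃ₗ[F] V) E} := by
    unfold cnt
    refine Nat.card_le_card_of_injective (fun y => ⟨⟨y.1, y.2.1⟩, ?_⟩) fun y y' hy => ?_
    · rintro ⟨e, he, E, hE⟩
      have he2 := (hI e he).1.ge
      obtain ⟨z, hz⟩ := hYe F V Φ e (kl_nd h) (by omega) y.1 (kl_le h y.2.1) E hE
      exact y.2.2 ⟨e, he, E, z, hz⟩
    · apply Subtype.ext
      exact congrArg (fun z : {y : G // ¬ ∃ e ∈ I, ∃ E, Gn Φ e (y : V ≃ₗ[F] V) E} => (z.1 : V ≃ₗ[F] V)) hy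
  exact_mod_cast hcnt

end Cfsg.Agent.H50.Ux
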